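import Mathlib
import Cfsg.Agent.Lib.SymAut.SmallIndex

/-! The subgroups of index six of the symmetric group of degree six. -/

set_option autoImplicit false

namespace Cfsg.Agent.Lib.SymAut

open Equiv Equiv.Perm

variable {α : Type*} [Fintype α] [DecidableEq α]

theorem stabilizer_injective (h3 : 3 ≤ Nat.card α) :
    Function.Injective (fun x : α => MulAction.stabilizer (Perm α) x) := by
  intro x y h
  by_contra hxy
  obtain ⟨z, -, hz⟩ := Finset.exists_mem_notMem_of_card_lt_card
    (s := {x, y}) (t := (Finset.univ : Finset α))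
    (lt_of_le_of_lt Finset.card_le_two (by simp [← Nat.card_eq_fintype_card]; omega))
  simp only [Finset.mem_insert, Finset.mem_singleton, not_or] at hz
  have hm : Equiv.swap y z ∈ MulAction.stabilizer (Perm α) x :=
    Equiv.swap_apply_of_ne_of_ne hxy (Ne.symm hz.1)
  have h' : MulAction.stabilizer (Perm α) x = MulAction.stabilizer (Perm α) y := h
  rw [h'] at hm
  exact hz.2 (by simpa using (hm : Equiv.swap y z y = y))

/-- A transitive subgroup of index six in the symmetric group of degree six, isomorphic to the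
symmetric group of degree five. -/
theorem exists_transitive_index_six (h6 : Nat.card α = 6) :
    ∃ H : Subgroup (Perm α), H.index = 6 ∧ Nonempty (H ≃* Perm (Fin 5)) ∧
      ∀ a : α, H ≠ MulAction.stabilizer (Perm α) a := by
  haveI : Fact (Nat.Prime 5) := ⟨by norm_num⟩
  have h120 : Nat.card (Perm (Fin 5)) = 120 := by
    rw [Nat.card_perm, Nat.card_fin]; decide
  let P : Sylow 5 (Perm (Fin 5)) := default
  have hP : Nat.card P = 5 := by
    rw [P.card_eq_multiplicity, h120]
    rw [show (120 : ℕ) = 5 ^ 1 * 24 by norm_num, Nat.factorization_mul (by norm_num) (by norm_num),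
      Finsupp.add_apply, Nat.factorization_pow, Finsupp.smul_apply,
      (by norm_num : Nat.Prime 5).factorization_self, Nat.factorization_eq_zero_of_not_dvd (by norm_num)]
    rfl
  have hne1 : Nat.card (Sylow 5 (Perm (Fin 5))) ≠ 1 := by
    intro h1
    haveI : Subsingleton (Sylow 5 (Perm (Fin 5))) := (Nat.card_eq_one_iff_unique.1 h1).1
    haveI : (P : Subgroup (Perm (Fin 5))).Normal := P.normal_of_subsingleton
    have hnt : Nontrivial (P : Subgroup (Perm (Fin 5))) := Finite.one_lt_card_iff_nontrivial.1 (by omega)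
    have h2 := Subgroup.card_le_of_le (alternatingGroup_le_of_normal (by simp) hnt)
    have h60 := two_mul_nat_card_alternatingGroup (α := Fin 5)
    omega
  have hn : Nat.card (Sylow 5 (Perm (Fin 5))) = 6 := by
    have hd := P.card_dvd_index
    have hi : (P : Subgroup (Perm (Fin 5))).index = 24 := by
      have := (P : Subgroup (Perm (Fin 5))).card_mul_index
      rw [hP, h120] at this
      omega
    rw [hi] at hd
    have hm := card_sylow_modEq_one 5 (Perm (Fin 5))
    have hle := Nat.le_of_dvd (by norm_num) hd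
    unfold Nat.ModEq at hm
    interval_cases hN : Nat.card (Sylow 5 (Perm (Fin 5))) <;> omega
  obtain ⟨e⟩ : Nonempty (Sylow 5 (Perm (Fin 5)) ≃ α) := ⟨(Finite.card_eq.1 (hn.trans h6.symm)).some⟩
  let f : Perm (Fin 5) →* Perm α :=
    (Equiv.permCongrHom e).toMonoidHom.comp (MulAction.toPermHom (Perm (Fin 5)) (Sylow 5 (Perm (Fin 5))))
  have hinj : Function.Injective f := by
    refine (Equiv.permCongrHom e).injective.comp ?_
    rw [← MonoidHom.ker_eq_bot_iff]
    by_contra hne
    have hle := alternatingGroup_le_of_normal (α := Fin 5) (by simp)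
      ((Subgroup.nontrivial_iff_ne_bot _).2 hne)
    have hker : (MulAction.toPermHom (Perm (Fin 5)) (Sylow 5 (Perm (Fin 5)))).ker ≤ MulAction.stabilizer _ P :=
      fun g hg => by
        have := congrArg (fun σ : Perm (Sylow 5 (Perm (Fin 5))) => σ P) (MonoidHom.mem_ker.1 hg)
        exact this
    have hi := Subgroup.index_dvd_of_le (hle.trans hker)
    rw [alternatingGroup.index_eq_two, MulAction.index_stabilizer_of_transitive, hn] at hi
    norm_num at hi
  let e' : Perm (Fin 5) ≃* f.range := MonoidHom.ofInjective hinj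
  refine ⟨f.range, ?_, ⟨e'.symm⟩, fun a ha => ?_⟩
  · have h1 := f.range.card_mul_index
    have h720 : Nat.card (Perm α) = 720 := by rw [Nat.card_perm, h6]; decide
    rw [← Nat.card_congr e'.toEquiv, h120, h720] at h1
    omega
  · obtain ⟨b, hb⟩ : ∃ b : α, b ≠ a := by
      haveI : Nontrivial α := Finite.one_lt_card_iff_nontrivial.1 (by omega)
      exact exists_ne a
    obtain ⟨g, hg⟩ := MulAction.exists_smul_eq (Perm (Fin 5)) (e.symm a) (e.symm b)
    have hm : f g ∈ MulAction.stabilizer (Perm α) a := ha ▸ ⟨g, rfl⟩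
    have hm' : e (g • e.symm a) = a := hm
    rw [hg, e.apply_symm_apply] at hm'
    exact hb hm'

theorem nonempty_mulEquiv_stabilizer (h6 : Nat.card α = 6) (x : α) :
    Nonempty (MulAction.stabilizer (Perm α) x ≃* Perm (Fin 5)) := by
  obtain ⟨e⟩ : Nonempty ({y // y ≠ x} ≃ Fin 5) := ⟨Fintype.equivFinOfCardEq (by
    rw [Fintype.card_subtype_compl, Fintype.card_subtype_eq, ← Nat.card_eq_fintype_card, h6])⟩
  let f : Perm {y // y ≠ x} →* MulAction.stabilizer (Perm α) x :=
    ofSubtype.codRestrict _ fun σ => ofSubtype_apply_of_not_mem σ (by simp)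
  have hinj : Function.Injective f := fun a b h => ofSubtype_injective (congrArg Subtype.val h)
  refine ⟨(MulEquiv.ofBijective f ((Nat.bijective_iff_injective_and_card f).2 ⟨hinj, ?_⟩)).symm.trans
    (Equiv.permCongrHom e)⟩
  have h1 := (MulAction.stabilizer (Perm α) x).card_mul_index
  rw [MulAction.index_stabilizer_of_transitive, h6, Nat.card_perm, h6] at h1
  rw [Nat.card_perm, Nat.card_congr e, Nat.card_fin]
  have : Nat.factorial 6 = 720 := by decide
  have : Nat.factorial 5 = 120 := by decide
  omega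

/-- The subgroups of index six come in two families. -/
theorem exists_outer (h6 : Nat.card α = 6) :
    ∃ ψ : Perm α ≃* Perm α,
      (∀ x a : α, (MulAction.stabilizer (Perm α) x).map ψ.toMonoidHom ≠ MulAction.stabilizer (Perm α) a) ∧
      ∀ H : Subgroup (Perm α), H.index = 6 → ∃ x : α, H = MulAction.stabilizer (Perm α) x ∨
        H = (MulAction.stabilizer (Perm α) x).map ψ.toMonoidHom := by
  obtain ⟨H0, hi, -, hno⟩ := exists_transitive_index_six h6
  obtain ⟨ψ, x0, rfl⟩ := exists_map_stabilizer (by omega) H0 (hi.trans h6.symm)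
  haveI : Nontrivial α := Finite.one_lt_card_iff_nontrivial.1 (by omega)
  have hall : ∀ (φ : Perm α ≃* Perm α) (g : Perm α), g.IsSwap → (φ g).IsSwap →
      ∀ g' : Perm α, g'.IsSwap → (φ g').IsSwap := by
    rintro φ g ⟨a, b, hab, rfl⟩ hφ g' ⟨c, d, hcd, rfl⟩
    rw [isSwap_iff_cycleType] at hφ ⊢
    rw [← hφ]
    exact isConj_iff_cycleType_eq.1 (MonoidHom.map_isConj φ.toMonoidHom (isConj_swap hcd hab))
  have hψ : ∀ g : Perm α, g.IsSwap → (ψ g).cycleType = Multiset.replicate 3 2 := by
    intro g hg
    refine ((apply_swap_cycleType ψ hg).resolve_left fun h => ?_).2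
    obtain ⟨a, ha⟩ := map_stabilizer_of_swaps (by omega) ψ (hall ψ g hg h) x0
    exact hno a ha
  refine ⟨ψ, fun x a he => ?_, fun H hH => ?_⟩
  · obtain ⟨g, hg⟩ := MulAction.exists_smul_eq (Perm α) x x0
    refine hno (ψ g • a) ?_
    rw [← hg, MulAction.stabilizer_smul_eq_stabilizer_map_conj, Subgroup.map_map]
    conv_rhs => rw [MulAction.stabilizer_smul_eq_stabilizer_map_conj, ← he, Subgroup.map_map]
    congr 1
    ext σ
    simp
  · obtain ⟨φ, x, rfl⟩ := exists_map_stabilizer (by omega) H (hH.trans h6.symm)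
    obtain ⟨u, v, huv⟩ := exists_pair_ne α
    have hswap : (Equiv.swap u v).IsSwap := ⟨u, v, huv, rfl⟩
    rcases apply_swap_cycleType φ hswap with h | ⟨-, h⟩
    · obtain ⟨a, ha⟩ := map_stabilizer_of_swaps (by omega) φ (hall φ _ hswap h) x
      exact ⟨a, Or.inl ha⟩
    · have hs : ((φ.trans ψ.symm) (Equiv.swap u v)).IsSwap := by
        have hconj : IsConj (φ (Equiv.swap u v)) (ψ (Equiv.swap u v)) :=
          isConj_iff_cycleType_eq.2 (h.trans (hψ _ hswap).symm)
        rw [isSwap_iff_cycleType]
        have h2 := isConj_iff_cycleType_eq.1 (MonoidHom.map_isConj ψ.symm.toMonoidHom hconj)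
        simp only [MulEquiv.coe_toMonoidHom, MulEquiv.symm_apply_apply] at h2
        rw [MulEquiv.trans_apply, h2]
        exact isSwap_iff_cycleType.1 hswap
      obtain ⟨a, ha⟩ := map_stabilizer_of_swaps (by omega) (φ.trans ψ.symm) (hall _ _ hswap hs) x
      refine ⟨a, Or.inr ?_⟩
      rw [← ha, Subgroup.map_map]
      congr 1
      ext σ
      simp

theorem index_map_stabilizer (ψ : Perm α ≃* Perm α) (x : α) :
    ((MulAction.stabilizer (Perm α) x).map ψ.toMonoidHom).index = Nat.card α := by
  rw [MulEquiv.toMonoidHom_eq_coe, Subgroup.index_map_equiv, MulAction.index_stabilizer_of_transitive]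

end Cfsg.Agent.Lib.SymAut
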